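import Mathlib
import Cfsg.Agent.OddOrderLocal.CNBasic
import Cfsg.Agent.H395.Jordan
set_option linter.all false

/-!
# Basic facts on class sizes of `p`-regular elements, Sylow subgroups of subgroups of index prime to `p`
-/

set_option autoImplicit false

namespace Cfsg.Agent.H503

open Subgroup
open scoped Pointwise

variable {G : Type*} [Group G] [Finite G]

/-- The size of a conjugacy class is the index of the centralizer. -/
theorem ncard_class (x : G) :
    (ConjClasses.mk x).carrier.ncard = (centralizer ({x} : Set G)).index := by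
  symm
  rw [Subgroup.centralizer_eq_comap_stabilizer, ← ConjAct.orbit_eq_carrier_conjClasses,
    ← MulAction.index_stabilizer]
  exact Subgroup.index_comap_of_surjective _ (MulEquiv.surjective _)

/-- A Sylow `p`-subgroup of a subgroup of index prime to `p` is one of the whole group. -/
theorem exists_sylow_eq_map {p : ℕ} [hp : Fact p.Prime] (H : Subgroup G) (h : ¬ p ∣ H.index)
    (S : Sylow p H) : ∃ T : Sylow p G, (T : Subgroup G) = (S : Subgroup H).map H.subtype := by
  have h1 : Nat.card ((S : Subgroup H).map H.subtype) = p ^ (Nat.card G).factorization p := by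
    rw [Subgroup.card_subtype, S.card_eq_multiplicity, ← H.card_mul_index,
      Nat.factorization_mul Nat.card_pos.ne' Subgroup.index_ne_zero_of_finite]
    rw [Finsupp.add_apply, Nat.factorization_eq_zero_of_not_dvd h, add_zero]
  exact ⟨Sylow.ofCard _ h1, Sylow.coe_ofCard _ h1⟩

/-- A `p`-subgroup of a subgroup `H` of index prime to `p` lies in a Sylow `p`-subgroup of the
whole group contained in `H`. -/
theorem exists_sylow_le {p : ℕ} [hp : Fact p.Prime] (H : Subgroup G) (h : ¬ p ∣ H.index)
    (Q : Subgroup G) (hQ : IsPGroup p Q) (hQH : Q ≤ H) :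
    ∃ T : Sylow p G, Q ≤ (T : Subgroup G) ∧ (T : Subgroup G) ≤ H := by
  have h1 : IsPGroup p (Q.subgroupOf H) := hQ.comap_of_injective H.subtype H.subtype_injective
  obtain ⟨S, hS⟩ := h1.exists_le_sylow
  obtain ⟨T, hT⟩ := exists_sylow_eq_map H h S
  refine ⟨T, ?_, ?_⟩
  · rw [hT]
    intro x hx
    exact ⟨⟨x, hQH hx⟩, hS hx, rfl⟩
  · rw [hT]
    exact Subgroup.map_subtype_le _

end Cfsg.Agent.H503
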