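import Cfsg.Agent.H251.Small.Num
import Cfsg.Agent.H812.SuzSeven_m3
import Cfsg.Agent.CpAutSuz.Local
import Cfsg.Agent.CTwoTab.Suz
import Cfsg.Agent.KFacts.SuzOut
import Cfsg.Agent.KFacts.SuzTwoB
import Cfsg.Agent.Prune
set_option linter.all false
prune_inst 0x7f00000000000000000000000000000000000000000000000000000000000000000000000000000000000000000000000000000000000000000000000000000000000000000000000000000000000000003fffffffffffffffffffffffffffbeffbdffffffff
open scoped Cfsg.Agent.FastGrp

/-!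
# HUB H1, part P11: there is no 2-transitive group with socle `Suz` (helper503)

Centralizers of the elements of order 11 and 13 of `Suz` : `|C(x)| ∣ 11 · 3 ^ 5` and `|C(x)| ∣ 13 · 3 ^ 3`.
-/

set_option autoImplicit false

namespace Cfsg.Agent.H503.TwoSuz

open Subgroup Cfsg
open Cfsg.Spor (Suz)
open Cfsg.Agent.SporadicRecognition.SuzPhi
  Cfsg.Agent.SporadicRecognition.SuzBound Cfsg.Agent.SporadicRecognition.SuzOrder
open Cfsg.Agent.SporRec.SuzCl (Fx)
open Cfsg.Agent.Lib.PermNetOrbit (stabL)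
open Cfsg.Agent.CpAutSuz.Fix Cfsg.Agent.CpAutSuz.Gen Cfsg.Agent.CpAutSuz.Local

theorem card_conj {s t : Suz} (h : IsConj s t) :
    Nat.card ↥(centralizer ({t} : Set Suz)) = Nat.card ↥(centralizer ({s} : Set Suz)) := by
  obtain ⟨c, rfl⟩ := isConj_iff.1 h
  have h1 := CTwoTab.map_centralizer_singleton (MulAut.conj c) s
  rw [show c * s * c⁻¹ = MulAut.conj c s from rfl, ← h1]
  exact Subgroup.card_map_of_injective (MulAut.conj c).injective

/-- orders of the centralizers of the involutions -/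
theorem not_dvd_two {p : ℕ} (h1 : ¬ p ∣ 3317760) (h2 : ¬ p ∣ 161280) {t : Suz} (ht : orderOf t = 2) :
    ¬ p ∣ Nat.card ↥(centralizer ({t} : Set Suz)) := by
  have htt : t * t = 1 := by rw [← pow_two, ← ht, pow_orderOf_eq_one]
  have ht1 : t ≠ 1 := by
    rintro rfl
    rw [orderOf_one] at ht; omega
  rcases CTwoTab.Suz.classes htt ht1 with h | h
  · rw [card_conj h]
    rwa [show Nat.card ↥(centralizer ({SuzThree.CentA.z0} : Set Suz)) = 3317760 from SuzThree.CentCard.card_C1]
  · rw [card_conj h]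
    rwa [show Nat.card ↥(centralizer ({KFacts.SuzLFour.e0} : Set Suz)) = 161280 from KFacts.SuzTwoB.card_CE]

theorem two_of {p : ℕ} (h1 : ¬ p ∣ 3317760) (h2 : ¬ p ∣ 161280) {x : Suz} (hx : orderOf x = p) :
    ¬ 2 ∣ Nat.card ↥(centralizer ({x} : Set Suz)) := by
  intro h
  obtain ⟨t, ht, hc⟩ := exists_orderOf Nat.prime_two h
  apply not_dvd_two h1 h2 ht
  have h3 : x ∈ centralizer ({t} : Set Suz) := mem_centralizer_singleton_iff.2 hc.symm
  have := orderOf_dvd_natCard (⟨x, h3⟩ : ↥(centralizer ({t} : Set Suz)))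
  rwa [Subgroup.orderOf_mk, hx] at this

theorem dvd_suz (H : Subgroup Suz) : Nat.card ↥H ∣ 2 ^ 13 * (3 ^ 7 * (5 ^ 2 * (7 * (11 * 13)))) := by
  have h := card_subgroup_dvd_card H
  rw [card_Suz] at h
  norm_num
  exact h

/-- elements of order 11 -/
theorem eleven {x : Suz} (hx : orderOf x = 11) : Nat.card ↥(centralizer ({x} : Set Suz)) ∣ 11 * 2187 := by
  have key : ∀ {l : ℕ}, l.Prime → (∀ v : Suz, orderOf v = l → ¬ 11 ∣ (Fx v).card) →
      Nat.Coprime (Nat.card ↥(centralizer ({x} : Set Suz))) l := by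
    intro l hl hF
    rw [Nat.coprime_comm, hl.coprime_iff_not_dvd]
    intro h
    obtain ⟨v, hv, hc⟩ := exists_orderOf hl h
    obtain ⟨a, ha, h1⟩ := exists_fix_prime (by norm_num) hx (Fx v)
      (fun a ha => φ_fix_of_comm hc.symm ha) (hF v hv)
    exact no_fix (l := 11) (by norm_num) hx (mem_Fx.1 ha).1 h1
  have h2 : Nat.Coprime (Nat.card ↥(centralizer ({x} : Set Suz))) 2 := by
    rw [Nat.coprime_comm, Nat.prime_two.coprime_iff_not_dvd]
    exact two_of (by norm_num) (by norm_num) hx
  have h5 := key (l := 5) (by norm_num) (fun v hv => by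
    rcases CpAutSuz.Five.card_Fx_five hv with h | h <;> rw [h] <;> norm_num)
  have h7 := key (l := 7) (by norm_num) (fun v hv => by rw [card_Fx_seven hv]; norm_num)
  have h13 := key (l := 13) (by norm_num) (fun v hv => by rw [card_Fx_thirteen hv]; norm_num)
  have h0 := dvd_suz (centralizer ({x} : Set Suz))
  have h1 := (h2.pow_right 13).dvd_of_dvd_mul_left h0
  rw [show 3 ^ 7 * (5 ^ 2 * (7 * (11 * 13))) = 5 ^ 2 * (7 * (13 * (11 * 2187))) by norm_num] at h1
  exact h13.dvd_of_dvd_mul_left (h7.dvd_of_dvd_mul_left ((h5.pow_right 2).dvd_of_dvd_mul_left h1))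

/-- elements of order 13 -/
theorem thirteen {x : Suz} (hx : orderOf x = 13) : Nat.card ↥(centralizer ({x} : Set Suz)) ∣ 13 * 27 := by
  obtain ⟨a, ha⟩ := Finset.card_eq_one.1 (card_Fx_thirteen hx)
  have ha1 : a ∈ Fx x := by rw [ha]; exact Finset.mem_singleton_self a
  have hle : centralizer ({x} : Set Suz) ≤ stabL φ [a] := by
    intro g hg
    rw [mem_stab_pt]
    have h1 := φ_fix_of_comm (mem_centralizer_singleton_iff.1 hg) ha1
    rw [ha, Finset.mem_singleton] at h1
    exact h1
  have h0 := card_dvd_of_le hle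
  rw [card_stab_pt (mem_Fx.1 ha1).1] at h0
  have key : ∀ {l : ℕ}, l.Prime → (∀ v : Suz, orderOf v = l → 2 ≤ (Fx v).card ∧ (Fx v).card ≤ 12) →
      Nat.Coprime (Nat.card ↥(centralizer ({x} : Set Suz))) l := by
    intro l hl hF
    rw [Nat.coprime_comm, hl.coprime_iff_not_dvd]
    intro h
    obtain ⟨v, hv, hc⟩ := exists_orderOf hl h
    obtain ⟨h3, h4⟩ := hF v hv
    have h5 : ∀ X : Finset ℕ, (∀ b ∈ X, φ x b ∈ X) → X ⊆ Fx v → X.card ≠ 0 → a ∈ X := by
      intro X hX hXv hX0
      obtain ⟨b, hb, h1⟩ := exists_fix_prime (by norm_num) hx X hX (by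
        intro h6
        have h7 := Nat.le_of_dvd (Nat.pos_of_ne_zero hX0) h6
        have h8 := Finset.card_le_card hXv
        omega)
      have h9 : b ∈ Fx x := mem_Fx.2 ⟨(mem_Fx.1 (hXv hb)).1, h1⟩
      rw [ha, Finset.mem_singleton] at h9
      rw [← h9]; exact hb
    have ha2 : a ∈ Fx v := h5 (Fx v) (fun b hb => φ_fix_of_comm hc.symm hb) (Finset.Subset.refl _) (by omega)
    have h10 := h5 ((Fx v).erase a) (fun b hb => by
      rw [Finset.mem_erase] at hb ⊢
      refine ⟨fun h => hb.1 ?_, φ_fix_of_comm hc.symm hb.2⟩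
      exact (φ x).injective (h.trans (mem_Fx.1 ha1).2.symm)) (Finset.erase_subset _ _) (by
      rw [Finset.card_erase_of_mem ha2]; omega)
    exact Finset.notMem_erase _ _ h10
  have h2 : Nat.Coprime (Nat.card ↥(centralizer ({x} : Set Suz))) 2 := by
    rw [Nat.coprime_comm, Nat.prime_two.coprime_iff_not_dvd]
    exact two_of (by norm_num) (by norm_num) hx
  have h5 := key (l := 5) (by norm_num) (fun v hv => by
    rcases CpAutSuz.Five.card_Fx_five hv with h | h <;> rw [h] <;> norm_num)
  have h7 := key (l := 7) (by norm_num) (fun v hv => by rw [card_Fx_seven hv]; norm_num)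
  rw [show 251596800 = 2 ^ 12 * (5 ^ 2 * (7 * (13 * 27))) by norm_num] at h0
  exact h7.dvd_of_dvd_mul_left ((h5.pow_right 2).dvd_of_dvd_mul_left ((h2.pow_right 12).dvd_of_dvd_mul_left h0))

/-! ### Transport -/

section
universe u

theorem card_cent_equiv {A B : Type*} [Group A] [Group B] (e : A ≃* B) (x : A) :
    Nat.card ↥(centralizer ({x} : Set A)) = Nat.card ↥(centralizer ({e x} : Set B)) := by
  refine Nat.card_congr ((e.toEquiv.subtypeEquiv fun a => ?_))
  rw [mem_centralizer_singleton_iff]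
  show a * x = x * a ↔ e a ∈ centralizer ({e x} : Set B)
  rw [mem_centralizer_singleton_iff, ← map_mul, ← map_mul, e.injective.eq_iff]

end

universe u v


open Cfsg.Agent.H384.TwoTrans Cfsg.Agent.H970.StabNum Cfsg.Agent.H970.TwoSpor

/-- the factorization of `|Suz|` -/
def fSuz : List (ℕ × ℕ) := [(2, 13), (3, 7), (5, 2), (7, 1), (11, 1), (13, 1)]

def tSuz : List ℕ := [60, 168, 360, 504, 660, 1092, 2520, 5616, 6048, 7800, 7920, 9828, 20160, 25920, 29120, 62400,
  95040, 181440, 262080, 443520, 604800, 1451520, 1814400, 3265920, 4245696, 6065280, 13685760, 17971200, 19958400,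
  42456960, 174182400, 239500800, 251596800, 3113510400, 448345497600]

theorem card_of {T : Type u} [Group T] (h : Cfsg.Spor.IsoSuz T) : Nat.card T = 448345497600 := by
  obtain ⟨e⟩ := h
  rw [Nat.card_congr e.toEquiv]
  exact card_Suz

theorem simple_of {T : Type u} [Group T] (h : Cfsg.Spor.IsoSuz T) : IsSimpleGroup T := by
  obtain ⟨e⟩ := h
  have : IsSimpleGroup Suz := Cfsg.Agent.SporadicRecognition.SuzOrder.simple
  exact e.isSimpleGroup

variable {T : Type u} [Group T]

theorem data_seven [Finite T] (h : Cfsg.Spor.IsoSuz T) (P : Subgroup T) (hP : Nat.card P = 7) :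
    Nat.card ↥(centralizer (P : Set T)) ∣ 7 * 12 ∧ Nat.card ↥(normalizer (P : Set T)) ∣ 7 * 72 := by
  have := Fact.mk (show Nat.Prime 7 by norm_num)
  obtain ⟨S, rfl⟩ := exists_sylow_of_card (by rw [card_of h]; norm_num) hP
  obtain ⟨⟨e⟩, h2⟩ := H812.SuzSeven.main h S
  refine ⟨?_, by rw [h2]⟩
  rw [Nat.card_congr e.toEquiv, Nat.card_prod]
  have h3 : Nat.card (Multiplicative (ZMod 7)) = 7 := by simp
  have h4 : Nat.card (alternatingGroup (Fin 4)) = 12 := by
    rw [Nat.card_eq_fintype_card]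
    have := two_mul_card_alternatingGroup (α := Fin 4)
    rw [Fintype.card_perm, Fintype.card_fin] at this
    have h5 : Nat.factorial 4 = 24 := rfl
    omega
  rw [h3, h4]

theorem data_eleven [Finite T] (h : Cfsg.Spor.IsoSuz T) (P : Subgroup T) (hP : Nat.card P = 11) :
    Nat.card ↥(centralizer (P : Set T)) ∣ 11 * 243 ∧ Nat.card ↥(normalizer (P : Set T)) ∣ 11 * 2430 := by
  have := simple_of h
  have h1 := entry_of_cent (T := T) (N := 448345497600) (p := 11) (k := 2187) (M := 2430) (by norm_num) (card_of h)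
    (by norm_num) (by norm_num) (by norm_num) (by decide +kernel) (fun x hx => by
      obtain ⟨e⟩ := h
      rw [card_cent_equiv e x]
      exact eleven (by rw [← hx]; exact orderOf_injective e.toMonoidHom e.injective x)) P hP
  refine ⟨?_, h1.2⟩
  have h2 : Nat.card ↥(centralizer (P : Set T)) ∣ 11 * 2430 :=
    (card_dvd_of_le (Subgroup.centralizer_le_normalizer _)).trans h1.2
  have h3 := Nat.dvd_gcd h1.1 h2
  exact h3

theorem data_thirteen [Finite T] (h : Cfsg.Spor.IsoSuz T) (P : Subgroup T) (hP : Nat.card P = 13) :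
    Nat.card ↥(centralizer (P : Set T)) ∣ 13 * 27 ∧ Nat.card ↥(normalizer (P : Set T)) ∣ 13 * 162 := by
  have := simple_of h
  exact entry_of_cent (T := T) (N := 448345497600) (p := 13) (k := 27) (M := 162) (by norm_num) (card_of h)
    (by norm_num) (by norm_num) (by norm_num) (by decide +kernel) (fun x hx => by
      obtain ⟨e⟩ := h
      rw [card_cent_equiv e x]
      exact thirteen (by rw [← hx]; exact orderOf_injective e.toMonoidHom e.injective x)) P hP

variable {G : Type u} {Ω : Type v} [Group G] [MulAction G Ω] {T : Subgroup G}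

theorem not_suz (OT : OrdDiv.OrderTable.{u})
    (hS : ∀ (X : Type u) [Group X] [Finite X] [IsSimpleGroup X], Cfsg.IsKnownSimple' X)
    (A : AS G Ω T) (h : Cfsg.Spor.IsoSuz ↥T) : False := by
  have := A.finT
  have h1 := deg_mem A OT hS (N := 448345497600) (out := 2) (js := [1, 2]) (l := fSuz)
    (data := [(7, 12, 72), (11, 243, 2430), (13, 27, 162)]) (ps := [2, 3, 5, 7, 11, 13]) (tbl := tSuz) (s := [])
    (card_of h) (by
      obtain ⟨e⟩ := h
      rw [index_conj_congr e]
      rcases KFacts.SuzOut.index_eq with h | h <;> rw [h]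
      norm_num) js_two (by decide +kernel) (by
      intro x hx
      simp only [List.mem_cons, List.not_mem_nil, or_false] at hx
      rcases hx with rfl | rfl | rfl
      · exact data_seven h
      · exact data_eleven h
      · exact data_thirteen h) (by decide +kernel)
  exact absurd h1 List.not_mem_nil

/-- **The row `Suz`.** -/
theorem row (OT : OrdDiv.OrderTable.{u})
    (hS : ∀ (X : Type u) [Group X] [Finite X] [IsSimpleGroup X], Cfsg.IsKnownSimple' X)
    (A : AS G Ω T) (h : Cfsg.Spor.IsoSuz ↥T) : Known2 ↥T (Nat.card Ω) :=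
  (not_suz OT hS A h).elim

end Cfsg.Agent.H503.TwoSuz
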